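import Cfsg.Agent.Characters.Orthogonality
import Cfsg.Agent.Characters.Linear
import Cfsg.Agent.Characters.Classes
import Mathlib.GroupTheory.GroupAction.Quotient
import Mathlib.GroupTheory.GroupAction.ConjAct

/-!
# Brauer's permutation lemma and real characters

* `card_fixed_eq`: a map of the group preserving conjugacy and irreducibility fixes as many
  irreducible characters as classes.
* `card_real_irr`: as many real irreducible characters as real classes.
* `card_quot_real`: for a normal subgroup of odd index, as many orbits on real irreducible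
  characters as on real elements.
-/

set_option autoImplicit false
set_option linter.style.haveILetI false
set_option linter.unusedSectionVars false

namespace CfsgLib.RealChars

open scoped ComplexConjugate

universe u v

section Brauer

variable {K : Type u} [Group K] [Finite K]

/-- Brauer's permutation lemma for a single map. -/
theorem card_fixed_eq (α : K → K) (hconj : ∀ {y z : K}, IsConj y z → IsConj (α y) (α z))
    (hirr : ∀ χ : K → ℂ, Cfsg.IsIrrCharacter K χ → Cfsg.IsIrrCharacter K (χ ∘ α)) :
    Nat.card {χ : Cfsg.IrrCharacter K // (χ : K → ℂ) ∘ α = χ} =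
      Nat.card {C : ConjClasses K // ∀ y, ConjClasses.mk y = C → IsConj (α y) y} := by
  classical
  haveI := Fintype.ofFinite K
  have h1 : (Nat.card {χ : Cfsg.IrrCharacter K // (χ : K → ℂ) ∘ α = χ} : ℂ) =
      ∑ χ : Cfsg.IrrCharacter K, Cfsg.classInner ((χ : K → ℂ) ∘ α) (χ : K → ℂ) := by
    rw [Nat.card_eq_fintype_card, Fintype.card_subtype, ← Finset.sum_boole]
    refine Finset.sum_congr rfl fun χ _ => ?_
    split_ifs with h
    · rw [h, CfsgLib.Characters.classInner_isIrr_self χ.2]
    · rw [CfsgLib.Characters.classInner_isIrr_ne (hirr _ χ.2) χ.2 h]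
  have h2 : ∑ χ : Cfsg.IrrCharacter K, Cfsg.classInner ((χ : K → ℂ) ∘ α) (χ : K → ℂ) =
      (Nat.card K : ℂ)⁻¹ * ∑ y : K, (if IsConj (α y) y then
        (Nat.card (Subgroup.centralizer ({y} : Set K)) : ℂ) else 0) := by
    simp only [Cfsg.classInner, ← Finset.mul_sum, Function.comp_apply]
    rw [Finset.sum_comm]
    congr 1
    refine Finset.sum_congr rfl fun y _ => ?_
    split_ifs with h
    · rw [← CfsgLib.Characters.sum_irr_mul_conj_of_isConj (IsConj.refl y)]
      refine Finset.sum_congr rfl fun χ _ => ?_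
      rw [CfsgLib.Characters.classFunction_isConj
        (CfsgLib.Characters.isClassFunction_of_isIrr χ.2) h]
    · exact CfsgLib.Characters.sum_irr_mul_conj_of_not_isConj h
  have h3 : ∀ C : ConjClasses K, ∑ y ∈ Finset.univ.filter (fun y => ConjClasses.mk y = C),
      (if IsConj (α y) y then (Nat.card (Subgroup.centralizer ({y} : Set K)) : ℂ) else 0) =
      if (∀ y, ConjClasses.mk y = C → IsConj (α y) y) then (Nat.card K : ℂ) else 0 := by
    intro C
    obtain ⟨z, rfl⟩ := ConjClasses.mk_surjective C
    have hiff : ∀ y, ConjClasses.mk y = ConjClasses.mk z → (IsConj (α y) y ↔ IsConj (α z) z) :=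
      fun y hy => by
        have hc := ConjClasses.mk_eq_mk_iff_isConj.1 hy
        exact ⟨fun h => (hconj hc).symm.trans (h.trans hc),
          fun h => (hconj hc).trans (h.trans hc.symm)⟩
    by_cases hz : IsConj (α z) z
    · rw [if_pos fun y hy => (hiff y hy).2 hz]
      have hcard : ∀ y, ConjClasses.mk y = ConjClasses.mk z →
          Nat.card (Subgroup.centralizer ({y} : Set K)) =
            Nat.card (Subgroup.centralizer ({z} : Set K)) := fun y hy => by
        have hc := ConjClasses.mk_eq_mk_iff_isConj.1 hy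
        obtain ⟨c, hcy⟩ := isConj_iff.1 hc
        have e1 := CfsgLib.Characters.sum_irr_mul_conj_of_isConj (IsConj.refl y)
        have e2 := CfsgLib.Characters.sum_irr_mul_conj_of_isConj (IsConj.refl z)
        rw [Finset.sum_congr rfl fun χ _ => by rw [CfsgLib.Characters.classFunction_isConj
          (CfsgLib.Characters.isClassFunction_of_isIrr χ.2) hc], e2] at e1
        exact_mod_cast e1.symm
      rw [Finset.sum_congr rfl fun y hy => by
        rw [if_pos ((hiff y (Finset.mem_filter.1 hy).2).2 hz),
          hcard y (Finset.mem_filter.1 hy).2], Finset.sum_const, nsmul_eq_mul]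
      rw [← Nat.cast_mul, Nat.cast_inj]
      have he : (Finset.univ.filter fun y => ConjClasses.mk y = ConjClasses.mk z).card =
          (Subgroup.centralizer ({z} : Set K)).index := by
        rw [Subgroup.centralizer_eq_comap_stabilizer]
        refine Eq.trans ?_ (Subgroup.index_comap_of_surjective
          (f := (ConjAct.toConjAct : K ≃* ConjAct K).toMonoidHom)
          (MulAction.stabilizer (ConjAct K) z) ConjAct.toConjAct.surjective).symm
        rw [MulAction.index_stabilizer, Set.ncard_eq_toFinset_card']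
        congr 1
        ext y
        simp [ConjAct.mem_orbit_conjAct, ConjClasses.mk_eq_mk_iff_isConj]
      rw [he, mul_comm, Subgroup.card_mul_index]
    · rw [if_neg fun h => hz (h z rfl), Finset.sum_eq_zero fun y hy => ?_]
      rw [if_neg fun h => hz ((hiff y (Finset.mem_filter.1 hy).2).1 h)]
  have h4 : (Nat.card {χ : Cfsg.IrrCharacter K // (χ : K → ℂ) ∘ α = χ} : ℂ) =
      (Nat.card {C : ConjClasses K // ∀ y, ConjClasses.mk y = C → IsConj (α y) y} : ℂ) := by
    haveI := Fintype.ofFinite (ConjClasses K)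
    rw [h1, h2, ← Finset.sum_fiberwise (s := Finset.univ) ConjClasses.mk,
      Finset.sum_congr rfl fun C _ => h3 C, ← Finset.sum_filter, Finset.sum_const, nsmul_eq_mul,
      mul_comm (Nat.card K : ℂ)⁻¹, mul_assoc,
      mul_inv_cancel₀ CfsgLib.Characters.natCard_ne_zero, mul_one, Nat.card_eq_fintype_card,
      Fintype.card_subtype]
  exact_mod_cast h4

/-- Irreducible characters composed with inversion are irreducible. -/
theorem isIrr_comp_inv {χ : K → ℂ} (h : Cfsg.IsIrrCharacter K χ) :
    Cfsg.IsIrrCharacter K (fun y => χ y⁻¹) := by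
  haveI := Fintype.ofFinite K
  have hc := CfsgLib.Characters.isCharacter_of_isIrr h
  have he : (fun y => χ y⁻¹) = fun y => conj (χ y) :=
    funext fun y => CfsgLib.Characters.character_inv hc y
  rw [he]
  obtain ⟨n, ρ, hρ⟩ := CfsgLib.Characters.isCharacter_conj hc
  refine ⟨n, ρ, ?_, hρ⟩
  have h1 : Cfsg.classInner ρ.character ρ.character = 1 := by
    rw [hρ, CfsgLib.Characters.classInner_conj_conj,
      CfsgLib.Characters.classInner_isIrr_self h, map_one]
  exact (CfsgLib.Characters.isIrreducible_iff_classInner ρ).2 h1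

/-- As many real irreducible characters as real classes. -/
theorem card_real_irr :
    Nat.card {χ : Cfsg.IrrCharacter K // ∀ y, ((χ : K → ℂ) y).im = 0} =
      Nat.card {C : ConjClasses K // ∀ y, ConjClasses.mk y = C → IsConj y y⁻¹} := by
  have h := card_fixed_eq (fun y : K => y⁻¹)
    (fun {y z} hyz => by
      obtain ⟨c, hc⟩ := isConj_iff.1 hyz
      exact isConj_iff.2 ⟨c, by rw [← conj_inv, hc]⟩)
    (fun χ hχ => isIrr_comp_inv hχ)
  have hl : ∀ χ : Cfsg.IrrCharacter K, (χ : K → ℂ) ∘ (fun y : K => y⁻¹) = (χ : K → ℂ) ↔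
      ∀ y, ((χ : K → ℂ) y).im = 0 := fun χ => by
    rw [funext_iff]
    refine forall_congr' fun y => ?_
    rw [Function.comp_apply, CfsgLib.Characters.character_inv
      (CfsgLib.Characters.isCharacter_of_isIrr χ.2), Complex.conj_eq_iff_im]
  rw [← Nat.card_congr (Equiv.subtypeEquivRight hl), h]
  exact Nat.card_congr (Equiv.subtypeEquivRight fun C =>
    forall_congr' fun y => imp_congr_right fun _ => ⟨IsConj.symm, IsConj.symm⟩)

end Brauer

section Orbits

variable {G : Type u} [Group G] [Finite G] (N : Subgroup G) [hN : N.Normal]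

/-- Real classes of `N`. -/
abbrev RealClasses : Type u :=
  {C : ConjClasses N // ∀ y, ConjClasses.mk y = C → IsConj y y⁻¹}

/-- Real irreducible characters of `N`. -/
abbrev RealIrr : Type u := {θ : Cfsg.IrrCharacter N // ∀ k : N, ((θ : N → ℂ) k).im = 0}

theorem conj_conj (g h : G) (n : N) :
    (MulAut.conjNormal g (MulAut.conjNormal h n) : N) = MulAut.conjNormal (g * h) n := by
  rw [map_mul]; rfl

/-- Conjugation on real characters. -/
noncomputable instance actRealIrr : MulAction G (RealIrr N) where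
  smul g θ := ⟨⟨fun n => (θ.1 : N → ℂ) (MulAut.conjNormal g⁻¹ n),
      CfsgLib.Characters.isIrr_comp (MulAut.conjNormal (H := N) g⁻¹).toMonoidHom
        (MulAut.conjNormal (H := N) g⁻¹).surjective θ.1.2⟩, fun n => θ.2 _⟩
  one_smul θ := Subtype.ext (Subtype.ext (funext fun n => by
    show (θ.1 : N → ℂ) (MulAut.conjNormal (1 : G)⁻¹ n) = (θ.1 : N → ℂ) n
    rw [inv_one, map_one]; rfl))
  mul_smul g h θ := Subtype.ext (Subtype.ext (funext fun n => by
    show (θ.1 : N → ℂ) (MulAut.conjNormal (g * h)⁻¹ n) =
      (θ.1 : N → ℂ) (MulAut.conjNormal h⁻¹ (MulAut.conjNormal g⁻¹ n))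
    rw [conj_conj, mul_inv_rev]))

theorem smul_realIrr_apply (g : G) (θ : RealIrr N) (n : N) :
    ((g • θ).1 : N → ℂ) n = (θ.1 : N → ℂ) (MulAut.conjNormal g⁻¹ n) := rfl

theorem mk_conj_real {g : G} {C : ConjClasses N}
    (hC : ∀ y, ConjClasses.mk y = C → IsConj y y⁻¹) (y : N)
    (hy : ConjClasses.mk y = ConjClasses.map (MulAut.conjNormal (H := N) g).toMonoidHom C) :
    IsConj y y⁻¹ := by
  obtain ⟨z, rfl⟩ := ConjClasses.mk_surjective C
  have hc : IsConj y (MulAut.conjNormal g z) := ConjClasses.mk_eq_mk_iff_isConj.1 hy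
  have h2 : IsConj (MulAut.conjNormal g z) (MulAut.conjNormal g z)⁻¹ := by
    rw [← map_inv]
    exact (MulAut.conjNormal (H := N) g).toMonoidHom.map_isConj (hC z rfl)
  obtain ⟨c, hcc⟩ := isConj_iff.1 hc
  have h3 : IsConj y⁻¹ (MulAut.conjNormal g z)⁻¹ := isConj_iff.2 ⟨c, by rw [← conj_inv, hcc]⟩
  exact hc.trans (h2.trans h3.symm)

/-- Conjugation on real classes. -/
noncomputable instance actRealClasses : MulAction G (RealClasses N) where
  smul g C := ⟨ConjClasses.map (MulAut.conjNormal (H := N) g).toMonoidHom C.1,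
    fun y hy => mk_conj_real N C.2 y hy⟩
  one_smul C := Subtype.ext (by
    obtain ⟨z, hz⟩ := ConjClasses.mk_surjective C.1
    show ConjClasses.map (MulAut.conjNormal (H := N) (1 : G)).toMonoidHom C.1 = C.1
    rw [← hz]
    show ConjClasses.mk (MulAut.conjNormal (1 : G) z) = ConjClasses.mk z
    rw [map_one]; rfl)
  mul_smul g h C := Subtype.ext (by
    obtain ⟨z, hz⟩ := ConjClasses.mk_surjective C.1
    show ConjClasses.map (MulAut.conjNormal (H := N) (g * h)).toMonoidHom C.1 =
      ConjClasses.map (MulAut.conjNormal (H := N) g).toMonoidHom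
        (ConjClasses.map (MulAut.conjNormal (H := N) h).toMonoidHom C.1)
    rw [← hz]
    show ConjClasses.mk (MulAut.conjNormal (g * h) z) =
      ConjClasses.mk (MulAut.conjNormal g (MulAut.conjNormal h z))
    rw [conj_conj])

theorem smul_realClasses_mk (g : G) (C : RealClasses N) {y : N} (hy : ConjClasses.mk y = C.1) :
    (g • C).1 = ConjClasses.mk (MulAut.conjNormal g y) := by
  show ConjClasses.map (MulAut.conjNormal (H := N) g).toMonoidHom C.1 = _
  rw [← hy]; rfl

theorem isConj_conjNormal_of_mem {g : G} (hg : g ∈ N) (y : N) :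
    IsConj y (MulAut.conjNormal g y) :=
  isConj_iff.2 ⟨⟨g, hg⟩, Subtype.ext (by simp [MulAut.conjNormal_apply])⟩

/-- For odd index, `g` fixes as many real characters as real classes. -/
theorem card_fixed_real (hodd : Odd N.index) (g : G) :
    Nat.card (MulAction.fixedBy (RealIrr N) g) = Nat.card (MulAction.fixedBy (RealClasses N) g) := by
  have hgm : g ^ N.index ∈ N := by
    rw [← QuotientGroup.eq_one_iff, QuotientGroup.mk_pow, Subgroup.index, pow_card_eq_one']
  let α : N → N := fun y => (MulAut.conjNormal g⁻¹ y)⁻¹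
  have hαconj : ∀ {y z : N}, IsConj y z → IsConj (α y) (α z) := fun {y z} h => by
    obtain ⟨c, hc⟩ := isConj_iff.1 ((MulAut.conjNormal (H := N) g⁻¹).toMonoidHom.map_isConj h)
    exact isConj_iff.2 ⟨c, by rw [← conj_inv]; exact congrArg Inv.inv hc⟩
  have hαirr : ∀ θ : N → ℂ, Cfsg.IsIrrCharacter N θ → Cfsg.IsIrrCharacter N (θ ∘ α) := fun θ hθ =>
    CfsgLib.Characters.isIrr_comp (MulAut.conjNormal (H := N) g⁻¹).toMonoidHom
      (MulAut.conjNormal (H := N) g⁻¹).surjective (isIrr_comp_inv hθ)
  have hmain := card_fixed_eq α hαconj hαirr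
  have hA : ∀ θ : Cfsg.IrrCharacter N, (θ : N → ℂ) ∘ α = θ ↔
      ((∀ k : N, ((θ : N → ℂ) k).im = 0) ∧
        ∀ k : N, (θ : N → ℂ) (MulAut.conjNormal g⁻¹ k) = (θ : N → ℂ) k) := by
    intro θ
    have hcinv := CfsgLib.Characters.character_inv (CfsgLib.Characters.isCharacter_of_isIrr θ.2)
    constructor
    · intro h
      have h' : ∀ k : N, conj ((θ : N → ℂ) (MulAut.conjNormal g⁻¹ k)) = (θ : N → ℂ) k :=
        fun k => by rw [← hcinv]; exact congrFun h k
      have h2 : ∀ (j : ℕ) (k : N), (θ : N → ℂ) (MulAut.conjNormal ((g⁻¹) ^ (2 * j)) k) =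
          (θ : N → ℂ) k := by
        intro j
        induction j with
        | zero => intro k; simp
        | succ j ih =>
          intro k
          rw [show 2 * (j + 1) = 2 * j + 1 + 1 by ring, pow_succ, pow_succ, ← conj_conj, ← conj_conj,
            ih]
          have e1 := h' k
          rw [← h' (MulAut.conjNormal g⁻¹ k), Complex.conj_conj] at e1
          exact e1
      obtain ⟨j, hj⟩ := hodd
      have hreal : ∀ k : N, ((θ : N → ℂ) k).im = 0 := by
        intro k
        rw [← Complex.conj_eq_iff_im]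
        have e0 := isConj_conjNormal_of_mem N (N.inv_mem hgm) k
        rw [← inv_pow, hj, pow_succ', ← conj_conj] at e0
        have e1 := CfsgLib.Characters.classFunction_isConj
          (CfsgLib.Characters.isClassFunction_of_isIrr θ.2) e0
        have e2 := h' (MulAut.conjNormal ((g⁻¹) ^ (2 * j)) k)
        rwa [← e1, h2] at e2
      refine ⟨hreal, fun k => ?_⟩
      rw [← Complex.conj_eq_iff_im.2 (hreal (MulAut.conjNormal g⁻¹ k))]
      exact h' k
    · rintro ⟨hr, hf⟩
      funext k
      rw [Function.comp_apply, hcinv, Complex.conj_eq_iff_im.2 (hr _), hf]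
  have hB : ∀ C : ConjClasses N, (∀ y, ConjClasses.mk y = C → IsConj (α y) y) ↔
      ((∀ y, ConjClasses.mk y = C → IsConj y y⁻¹) ∧
        ∀ y, ConjClasses.mk y = C → IsConj (MulAut.conjNormal g y) y) := by
    intro C
    have hinvc : ∀ {a b : N}, IsConj a b → IsConj a⁻¹ b⁻¹ := fun {a b} h => by
      obtain ⟨c, hc⟩ := isConj_iff.1 h
      exact isConj_iff.2 ⟨c, by rw [← conj_inv, hc]⟩
    have hmap : ∀ (e : G) {a b : N}, IsConj a b →
        IsConj (MulAut.conjNormal e a) (MulAut.conjNormal e b) := fun e {a b} h =>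
      (MulAut.conjNormal (H := N) e).toMonoidHom.map_isConj h
    obtain ⟨z, rfl⟩ := ConjClasses.mk_surjective C
    constructor
    · intro h
      have h0 : IsConj (MulAut.conjNormal g z) z⁻¹ := by
        have h1 := hmap g (h z rfl)
        simp only [α, map_inv] at h1
        rw [← MulAut.mul_apply, mul_inv_cancel, MulAut.one_apply] at h1
        exact h1.symm
      have h1 : IsConj (MulAut.conjNormal g z⁻¹) z := by
        rw [map_inv]
        simpa using hinvc h0
      have h2 : ∀ j : ℕ, IsConj (MulAut.conjNormal (g ^ (2 * j)) z) z := by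
        intro j
        induction j with
        | zero => simp only [mul_zero, pow_zero, map_one, MulAut.one_apply]; exact IsConj.refl z
        | succ j ih =>
          rw [show 2 * (j + 1) = 2 * j + 1 + 1 by ring, pow_succ, pow_succ, ← conj_conj,
            ← conj_conj]
          exact (hmap _ ((hmap g h0).trans h1)).trans ih
      obtain ⟨j, hj⟩ := hodd
      have hz : IsConj z z⁻¹ := by
        have e := isConj_conjNormal_of_mem N hgm z
        rw [hj, pow_succ', ← conj_conj] at e
        exact e.trans ((hmap g (h2 j)).trans h0)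
      refine ⟨fun y hy => ?_, fun y hy => ?_⟩
      · have hc := ConjClasses.mk_eq_mk_iff_isConj.1 hy
        exact hc.trans (hz.trans (hinvc hc).symm)
      · have hc := ConjClasses.mk_eq_mk_iff_isConj.1 hy
        exact (hmap g hc).trans (h0.trans (hz.symm.trans hc.symm))
    · rintro ⟨hr, hf⟩ y hy
      have e := hmap g⁻¹ (hf y hy)
      rw [conj_conj, inv_mul_cancel, map_one, MulAut.one_apply] at e
      exact (hinvc e).symm.trans (hr y hy).symm
  let eA : MulAction.fixedBy (RealIrr N) g ≃ {θ : Cfsg.IrrCharacter N // (θ : N → ℂ) ∘ α = θ} :=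
    { toFun := fun θ => ⟨θ.1.1, (hA _).2 ⟨θ.1.2, fun k => by
        rw [← smul_realIrr_apply, show g • θ.1 = θ.1 from θ.2]⟩⟩
      invFun := fun θ => ⟨⟨θ.1, ((hA _).1 θ.2).1⟩,
        Subtype.ext (Subtype.ext (funext ((hA _).1 θ.2).2))⟩
      left_inv := fun _ => rfl
      right_inv := fun _ => rfl }
  let eB : MulAction.fixedBy (RealClasses N) g ≃
      {C : ConjClasses N // ∀ y, ConjClasses.mk y = C → IsConj (α y) y} :=
    { toFun := fun C => ⟨C.1.1, (hB _).2 ⟨C.1.2, fun y hy => ConjClasses.mk_eq_mk_iff_isConj.1 (by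
        rw [← smul_realClasses_mk N g C.1 hy, show g • C.1 = C.1 from C.2]
        exact hy.symm)⟩⟩
      invFun := fun C => ⟨⟨C.1, ((hB _).1 C.2).1⟩, Subtype.ext (by
        obtain ⟨y, hy⟩ := ConjClasses.mk_surjective C.1
        rw [smul_realClasses_mk N g _ hy]
        exact (ConjClasses.mk_eq_mk_iff_isConj.2 (((hB _).1 C.2).2 y hy)).trans hy)⟩
      left_inv := fun _ => rfl
      right_inv := fun _ => rfl }
  rw [Nat.card_congr eA, hmain, Nat.card_congr eB]

/-- For odd index, as many orbits on real characters as on real classes. -/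
theorem card_orbits_real (hodd : Odd N.index) :
    Nat.card (MulAction.orbitRel.Quotient G (RealIrr N)) =
      Nat.card (MulAction.orbitRel.Quotient G (RealClasses N)) := by
  classical
  haveI := Fintype.ofFinite G
  haveI := Fintype.ofFinite (MulAction.orbitRel.Quotient G (RealIrr N))
  haveI := Fintype.ofFinite (MulAction.orbitRel.Quotient G (RealClasses N))
  haveI : ∀ g : G, Fintype (MulAction.fixedBy (RealIrr N) g) := fun g => Fintype.ofFinite _
  haveI : ∀ g : G, Fintype (MulAction.fixedBy (RealClasses N) g) := fun g => Fintype.ofFinite _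
  have e1 := MulAction.sum_card_fixedBy_eq_card_orbits_mul_card_group G (RealIrr N)
  have e2 := MulAction.sum_card_fixedBy_eq_card_orbits_mul_card_group G (RealClasses N)
  simp only [← Nat.card_eq_fintype_card, card_fixed_real N hodd] at e1 e2
  exact Nat.eq_of_mul_eq_mul_right Nat.card_pos (e1.symm.trans e2)

/-- The relation "conjugate in `G`" on real characters of `N`. -/
def irrRel (θ η : RealIrr N) : Prop :=
  ∃ g : G, ∀ k k' : N, (k' : G) = g * (k : G) * g⁻¹ → (η.1 : N → ℂ) k' = (θ.1 : N → ℂ) k

/-- The relation "conjugate in `G`" on real elements of `N`. -/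
def eltRel (x y : {x : N // IsConj x x⁻¹}) : Prop := ∃ g : G, (y.1 : G) = g * x.1 * g⁻¹

theorem irrRel_iff (θ η : RealIrr N) : irrRel N θ η ↔ ∃ g : G, g • θ = η := by
  refine exists_congr fun g => ⟨fun h => ?_, fun h k k' hk => ?_⟩
  · refine Subtype.ext (Subtype.ext (funext fun k => ?_))
    rw [smul_realIrr_apply]
    exact (h _ k (by simp [mul_assoc])).symm
  · rw [← h, smul_realIrr_apply]
    exact congrArg (θ.1 : N → ℂ) (Subtype.ext (by rw [MulAut.conjNormal_apply, hk]; group))

/-- Orbits of real characters as the quotient by `irrRel`. -/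
noncomputable def quotIrrEquiv : Quot (irrRel N) ≃ MulAction.orbitRel.Quotient G (RealIrr N) :=
  Quot.congrRight fun θ η => by
    rw [irrRel_iff, MulAction.orbitRel_apply, MulAction.mem_orbit_iff]
    exact ⟨fun ⟨g, hg⟩ => ⟨g⁻¹, by rw [← hg, inv_smul_smul]⟩,
      fun ⟨g, hg⟩ => ⟨g⁻¹, by rw [← hg, inv_smul_smul]⟩⟩

/-- The class of a real element. -/
def realClassOf (x : {x : N // IsConj x x⁻¹}) : RealClasses N :=
  ⟨ConjClasses.mk x.1, fun y hy => by
    have hc := ConjClasses.mk_eq_mk_iff_isConj.1 hy
    obtain ⟨c, hcc⟩ := isConj_iff.1 hc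
    have h3 : IsConj y⁻¹ x.1⁻¹ := isConj_iff.2 ⟨c, by rw [← conj_inv, hcc]⟩
    exact hc.trans (x.2.trans h3.symm)⟩

theorem card_quot_elt :
    Nat.card (Quot (eltRel N)) = Nat.card (MulAction.orbitRel.Quotient G (RealClasses N)) := by
  have hmap : ∀ x y : {x : N // IsConj x x⁻¹}, eltRel N x y →
      (Quotient.mk'' (realClassOf N x) : MulAction.orbitRel.Quotient G (RealClasses N)) =
        Quotient.mk'' (realClassOf N y) := by
    rintro x y ⟨g, hg⟩
    refine Quotient.sound' (MulAction.orbitRel_apply.2 (MulAction.mem_orbit_iff.2 ⟨g⁻¹, ?_⟩))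
    refine Subtype.ext ?_
    rw [smul_realClasses_mk N g⁻¹ (realClassOf N y) rfl]
    show ConjClasses.mk _ = ConjClasses.mk x.1
    congr 1
    exact Subtype.ext (by simp [hg, mul_assoc])
  refine Nat.card_congr (Equiv.ofBijective (Quot.lift _ hmap) ⟨?_, ?_⟩)
  · rintro ⟨x⟩ ⟨y⟩ h
    obtain ⟨g, hg⟩ := MulAction.mem_orbit_iff.1 (MulAction.orbitRel_apply.1 (Quotient.exact' h))
    have h' := congrArg Subtype.val hg
    rw [smul_realClasses_mk N g (realClassOf N y) rfl] at h'
    obtain ⟨c, hc⟩ := isConj_iff.1 (ConjClasses.mk_eq_mk_iff_isConj.1 h')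
    refine Quot.sound ⟨((c : G) * g)⁻¹, ?_⟩
    have := congrArg Subtype.val hc
    simp only [Subgroup.coe_mul, Subgroup.coe_inv, MulAut.conjNormal_apply] at this
    rw [← this]
    group
  · intro q
    induction q using Quotient.inductionOn' with
    | _ C =>
      obtain ⟨z, hz⟩ := ConjClasses.mk_surjective C.1
      exact ⟨Quot.mk _ ⟨z, C.2 z hz⟩, congrArg Quotient.mk'' (Subtype.ext hz)⟩

/-- For odd index, `G` has as many orbits on real irreducible characters of `N` as on real
elements of `N`. -/
theorem card_quot_real (hodd : Odd N.index) :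
    Nat.card (Quot (irrRel N)) = Nat.card (Quot (eltRel N)) := by
  rw [Nat.card_congr (quotIrrEquiv N), card_quot_elt, card_orbits_real N hodd]

end Orbits

end CfsgLib.RealChars
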